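import Cfsg.Agent.Lib.LocalEven.MinOffender.Core
import Cfsg.Agent.Lib.LocalEven.StronglyEmbeddedCrit

/-!
An offender whose conjugates from outside a subgroup meet it trivially: the minimal overgroups outside that subgroup.
-/

set_option autoImplicit false
set_option linter.unusedSectionVars false

namespace CfsgLib.LocalEven.StrongFF

open CfsgLib.Fusion (conjSub mem_conjSub conj_mem_conjSub conjSub_conjSub conjSub_one conjSub_mono card_conjSub)
open CfsgLib.LocalEven (IsStronglyPEmbedded.mem_of_conj_mem IsStronglyPEmbedded.pgroup_le)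
open CfsgLib.LocalEven.MinOffender (fx fx_anti mem_fx_conj smul_mem_fx_conj card_fx_conj)

variable {Γ : Type*} [Group Γ] [Finite Γ] {M : Type*} [AddCommGroup M] [DistribMulAction Γ M] [Finite M]

/-- An overgroup of `A` outside `Me`, minimal as such. -/
structure IsMin (Me A L : Subgroup Γ) : Prop where
  aLe : A ≤ L
  notLe : ¬ L ≤ Me
  least : ∀ K : Subgroup Γ, A ≤ K → K ≤ L → ¬ K ≤ Me → L ≤ K

/-- The setting. -/
structure Setup (p : ℕ) (Me A : Subgroup Γ) (M : Type*) [AddCommGroup M] [DistribMulAction Γ M] : Prop where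
  exp : ∀ m : M, p • m = 0
  faithful : ∀ g : Γ, (∀ m : M, g • m = m) → g = 1
  proper : Me ≠ ⊤
  outside : ∀ {x a : Γ}, x ∉ Me → a ∈ A → x * a * x⁻¹ ∈ Me → a = 1
  noPGroup : ∀ {L : Subgroup Γ}, IsMin Me A L → ∀ E : Subgroup ↥L, E.Normal → IsPGroup p ↥E → E = ⊥
  aLe : A ≤ Me
  ne : A ≠ ⊥
  pA : IsPGroup p ↥A
  aComm : ∀ a ∈ A, ∀ b ∈ A, a * b = b * a
  off : Nat.card M ≤ Nat.card ↥A * Nat.card ↥(fx M A)
  quad : ∀ {a b : Γ}, a ∈ A → b ∈ A → ∀ v : M, a • (b • v - v) = b • v - v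

/-- The space fixed by the conjugate of `A` by `g`. -/
abbrev line (M : Type*) [AddCommGroup M] [DistribMulAction Γ M] (A : Subgroup Γ) (g : Γ) : AddSubgroup M :=
  fx M (conjSub g A)

theorem mem_line_mul {A : Subgroup Γ} {a g : Γ} {y : M} : a • y ∈ line M A (a * g) ↔ y ∈ line M A g := by
  rw [mem_fx_conj, mem_fx_conj, mul_inv_rev, mul_smul, inv_smul_smul]

theorem fx_subgroupOf {L K : Subgroup Γ} (h : K ≤ L) : fx M (K.subgroupOf L) = fx M K := by
  ext m
  exact ⟨fun hm k hk => hm ⟨k, h hk⟩ hk, fun hm k hk => hm _ hk⟩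

theorem fx_top_subgroup (L : Subgroup Γ) : fx M (⊤ : Subgroup ↥L) = fx M L := by
  rw [← fx_subgroupOf (le_refl L), Subgroup.subgroupOf_self]

theorem conjSub_subgroupOf {L A : Subgroup Γ} (x : ↥L) :
    conjSub x (A.subgroupOf L) = (conjSub (x : Γ) A).subgroupOf L := by
  ext g
  rw [mem_conjSub, Subgroup.mem_subgroupOf, Subgroup.mem_subgroupOf, mem_conjSub]
  rfl

theorem exists_min {Me A K : Subgroup Γ} (hAK : A ≤ K) (hK : ¬ K ≤ Me) : ∃ L, L ≤ K ∧ IsMin Me A L := by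
  obtain ⟨L, ⟨hAL, hLK, hLM⟩, hmin⟩ := Set.Finite.exists_minimal
    (s := {L : Subgroup Γ | A ≤ L ∧ L ≤ K ∧ ¬ L ≤ Me}) (Set.toFinite _) ⟨K, hAK, le_rfl, hK⟩
  exact ⟨L, hLK, hAL, hLM, fun J h1 h2 h3 => hmin ⟨h1, h2.trans hLK, h3⟩ h2⟩

namespace Setup

variable {p : ℕ} [Fact p.Prime] {Me A : Subgroup Γ} (s : Setup p Me A M)
include s

theorem pow_A {a : Γ} (ha : a ∈ A) : ∃ k, orderOf a = p ^ k := by
  obtain ⟨k, hk⟩ := IsPGroup.iff_orderOf.1 s.pA ⟨a, ha⟩
  exact ⟨k, (Subgroup.orderOf_mk a ha).symm.trans hk⟩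

theorem pow_conj {g a : Γ} (ha : a ∈ A) : ∃ k, orderOf (g * a * g⁻¹) = p ^ k := by
  obtain ⟨k, hk⟩ := s.pow_A ha
  exact ⟨k, by rw [show g * a * g⁻¹ = MulAut.conj g a from rfl, MulEquiv.orderOf_eq, hk]⟩

theorem exists_ne_one : ∃ a ∈ A, a ≠ 1 := by
  by_contra hc
  push Not at hc
  exact s.ne ((Subgroup.eq_bot_iff_forall A).2 hc)

/-- Conjugates of `A` outside `Me` meet it trivially. -/
theorem eq_one_of_mem {x a : Γ} (hx : x ∉ Me) (ha : a ∈ A) (hxa : x * a * x⁻¹ ∈ Me) : a = 1 := s.outside hx ha hxa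

theorem not_le {x : Γ} (hx : x ∉ Me) : ¬ (A ⊔ conjSub x A ≤ Me) := fun h => by
  obtain ⟨a, ha, ha1⟩ := s.exists_ne_one
  exact ha1 (s.eq_one_of_mem hx ha (h (Subgroup.mem_sup_right (conj_mem_conjSub ha))))

theorem gen_eq {L : Subgroup Γ} (hL : IsMin Me A L) {x : Γ} (hxL : x ∈ L) (hx : x ∉ Me) : A ⊔ conjSub x A = L := by
  have hle : A ⊔ conjSub x A ≤ L := sup_le hL.aLe fun g hg => by
    obtain ⟨a, ha, rfl⟩ := hg
    exact mul_mem (mul_mem hxL (hL.aLe ha)) (inv_mem hxL)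
  exact le_antisymm hle (hL.least _ le_sup_left hle (s.not_le hx))

theorem exists_out {L : Subgroup Γ} (hL : IsMin Me A L) : ∃ x ∈ L, x ∉ Me := SetLike.not_le_iff_exists.1 hL.notLe

/-- A minimal overgroup has no normal `p`-subgroup. -/
theorem normal_eq_bot {L : Subgroup Γ} (hL : IsMin Me A L) (E : Subgroup ↥L) (hn : E.Normal) (hp : IsPGroup p ↥E) :
    E = ⊥ := s.noPGroup hL E hn hp

theorem core {L : Subgroup Γ} (hL : IsMin Me A L) :
    MinOffender.Core p (A.subgroupOf L) (Me.subgroupOf L) M := by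
  have hcardA : Nat.card ↥(A.subgroupOf L) = Nat.card ↥A :=
    Nat.card_congr (Subgroup.subgroupOfEquivOfLe hL.aLe).toEquiv
  have hgen : ∀ x : ↥L, x ∉ Me.subgroupOf L → A.subgroupOf L ⊔ conjSub x (A.subgroupOf L) = ⊤ := by
    intro x hx
    rw [conjSub_subgroupOf, ← Subgroup.subgroupOf_sup hL.aLe (le_trans le_sup_right (s.gen_eq hL x.2 hx).le),
      s.gen_eq hL x.2 hx, Subgroup.subgroupOf_self]
  have hexp := s.exp
  refine
    { prime := Fact.out
      exp := s.exp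
      faithful := fun g hg => Subtype.ext (s.faithful g fun m => hg m)
      pA := s.pA.of_equiv (Subgroup.subgroupOfEquivOfLe hL.aLe).symm
      aComm := fun a ha b hb => Subtype.ext (s.aComm _ ha _ hb)
      off := by rw [hcardA, fx_subgroupOf hL.aLe]; exact s.off
      proper := ?_
      gen := hgen
      quad := fun {a b} ha hb v => s.quad ha hb v
      interBot := ?_
      moved := ?_ }
  · obtain ⟨x, hxL, hx⟩ := s.exists_out hL
    exact ⟨⟨x, hxL⟩, hx⟩
  · intro x hx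
    rw [Subgroup.eq_bot_iff_forall]
    rintro a ⟨ha, ha'⟩
    rw [conjSub_subgroupOf] at ha'
    refine Subtype.ext (s.eq_one_of_mem (x := ((x : Γ))⁻¹) (fun h => hx ?_) ha ?_)
    · have := Me.inv_mem h
      rwa [inv_inv] at this
    · have := mem_conjSub.1 ha'
      simpa using this
  · -- otherwise `A` stabilises the series and so does its normal closure
    by_contra hc
    push Not at hc
    refine s.ne ?_
    let Z := fx M (⊤ : Subgroup ↥L)
    let E : Subgroup ↥L :=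
      { carrier := {g | ∀ m : M, g • m - m ∈ Z}
        one_mem' := fun m => by simp [zero_mem]
        mul_mem' := fun {a b} ha hb m => by
          rw [show (a * b) • m - m = (a • b • m - b • m) + (b • m - m) by rw [mul_smul]; abel]
          exact add_mem (ha _) (hb m)
        inv_mem' := fun {a} ha m => by
          rw [show a⁻¹ • m - m = -(a • (a⁻¹ • m) - a⁻¹ • m) by rw [smul_inv_smul]; abel]
          exact neg_mem (ha _) }
    have hEn : E.Normal := ⟨fun e he g m => by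
      have h1 := he (g⁻¹ • m)
      rw [show (g * e * g⁻¹) • m - m = g • (e • g⁻¹ • m - g⁻¹ • m) by
        rw [smul_sub, smul_inv_smul, mul_smul, mul_smul], h1 g (Subgroup.mem_top g)]
      exact h1⟩
    have hEp : IsPGroup p ↥E := fun e => by
      refine ⟨1, Subtype.ext (Subtype.ext (s.faithful _ fun m => ?_))⟩
      have h1 : (e : ↥L) ^ p • m = m := by
        have hpow : ∀ k : ℕ, (e : ↥L) ^ k • m = m + k • ((e : ↥L) • m - m) := by
          intro k
          induction k with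
          | zero => simp
          | succ k ih =>
            rw [pow_succ', mul_smul, ih, smul_add, smul_comm (e : ↥L) k, e.2 m _ (Subgroup.mem_top _), succ_nsmul]
            abel
        rw [hpow, hexp, add_zero]
      simpa [Subgroup.smul_def] using h1
    have hEbot := s.normal_eq_bot hL E hEn hEp
    rw [Subgroup.eq_bot_iff_forall]
    intro a ha
    have haE : (⟨a, hL.aLe ha⟩ : ↥L) ∈ E := by
      intro m
      by_contra hm
      obtain ⟨E', hE'n, hE'p, hE'⟩ := hc ((⟨a, hL.aLe ha⟩ : ↥L) • m - m)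
        (fun b hb => s.quad hb ha m) hm
      exact hE' (s.normal_eq_bot hL E' hE'n hE'p ▸ fun g hg => by
        rw [Subgroup.mem_bot] at hg; rw [hg, one_smul])
    rw [hEbot, Subgroup.mem_bot] at haE
    exact congrArg Subtype.val haE

variable {L : Subgroup Γ} (hL : IsMin Me A L)
include hL

theorem card_fix : Nat.card ↥(fx M A) = Nat.card ↥A * Nat.card ↥(fx M L) := by
  have := (s.core hL).card_fix
  rwa [fx_top_subgroup, fx_subgroupOf hL.aLe, Nat.card_congr (Subgroup.subgroupOfEquivOfLe hL.aLe).toEquiv] at this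

theorem card_mod_of_min : Nat.card M = Nat.card ↥A * Nat.card ↥(fx M A) := by
  have := (s.core hL).card_mod
  rwa [fx_subgroupOf hL.aLe, Nat.card_congr (Subgroup.subgroupOfEquivOfLe hL.aLe).toEquiv] at this

theorem fx_le_line {x : Γ} (hxL : x ∈ L) : fx M L ≤ line M A x :=
  fx_anti fun g hg => by
    obtain ⟨a, ha, rfl⟩ := hg
    exact mul_mem (mul_mem hxL (hL.aLe ha)) (inv_mem hxL)

theorem inter_le {x : Γ} (hxL : x ∈ L) (hx : x ∉ Me) {v : M} (hv : v ∈ fx M A) (hv' : v ∈ line M A x) :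
    v ∈ fx M L := by
  have h : L ≤ MulAction.stabilizer Γ v := by
    rw [← s.gen_eq hL hxL hx]
    exact sup_le (fun a ha => hv a ha) (fun a ha => hv' a ha)
  exact fun g hg => h hg

theorem fx_conj_subgroupOf {x : Γ} (hxL : x ∈ L) :
    fx M (conjSub (⟨x, hxL⟩ : ↥L) (A.subgroupOf L)) = line M A x := by
  rw [conjSub_subgroupOf]
  refine fx_subgroupOf fun g hg => ?_
  obtain ⟨a, ha, rfl⟩ := hg
  exact mul_mem (mul_mem hxL (hL.aLe ha)) (inv_mem hxL)

theorem exists_add {x : Γ} (hxL : x ∈ L) (hx : x ∉ Me) (v : M) :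
    ∃ a ∈ fx M A, ∃ b ∈ line M A x, v = a + b := by
  obtain ⟨a, ha, b, hb, e⟩ := (s.core hL).exists_add (x := ⟨x, hxL⟩) hx v
  rw [fx_subgroupOf hL.aLe] at ha
  rw [s.fx_conj_subgroupOf hL hxL] at hb
  exact ⟨a, ha, b, hb, e⟩

theorem cover {x : Γ} (hxL : x ∈ L) (hx : x ∉ Me) {v : M} (hv : v ∉ fx M A) :
    ∃ a ∈ A, v ∈ line M A (a * x) ∧ v ∉ fx M L := by
  obtain ⟨a, ha, y, hy, hyZ, e⟩ :=
    (s.core hL).cover (x := ⟨x, hxL⟩) hx v (by rwa [fx_subgroupOf hL.aLe])
  rw [s.fx_conj_subgroupOf hL hxL] at hy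
  subst e
  exact ⟨a, ha, mem_line_mul.2 hy, fun h => hv (fx_anti hL.aLe h)⟩

theorem semireg {x : Γ} (hxL : x ∈ L) (hx : x ∉ Me) {a : Γ} (ha : a ∈ A) (ha1 : a ≠ 1) {y : M}
    (hy : y ∈ line M A x) (hay : a • y - y ∈ fx M L) : y ∈ fx M L := by
  have := (s.core hL).semireg (x := ⟨x, hxL⟩) hx (a := ⟨a, hL.aLe ha⟩) ha (fun e => ha1 (congrArg Subtype.val e))
    (v := y) (by rwa [s.fx_conj_subgroupOf hL hxL]) (by rw [fx_top_subgroup]; exact hay)
  rwa [fx_top_subgroup] at this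

theorem card_fix_pos : 1 < Nat.card ↥A := (Subgroup.one_lt_card_iff_ne_bot A).2 s.ne

end Setup

/-- A strongly embedded subgroup gives the setting. -/
theorem Setup.of_emb {p : ℕ} [Fact p.Prime] {Me A : Subgroup Γ} (exp : ∀ m : M, p • m = 0)
    (faithful : ∀ g : Γ, (∀ m : M, g • m = m) → g = 1) (emb : Cfsg.IsStronglyPEmbedded p Me) (aLe : A ≤ Me)
    (ne : A ≠ ⊥) (pA : IsPGroup p ↥A) (aComm : ∀ a ∈ A, ∀ b ∈ A, a * b = b * a)
    (off : Nat.card M ≤ Nat.card ↥A * Nat.card ↥(fx M A))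
    (quad : ∀ {a b : Γ}, a ∈ A → b ∈ A → ∀ v : M, a • (b • v - v) = b • v - v) : Setup p Me A M := by
  refine
    { exp := exp, faithful := faithful, proper := emb.2.1, aLe := aLe, ne := ne, pA := pA, aComm := aComm, off := off
      quad := quad
      outside := ?_
      noPGroup := ?_ }
  · intro x a hx ha hxa
    by_contra ha1
    obtain ⟨k, hk⟩ := IsPGroup.iff_orderOf.1 pA ⟨a, ha⟩
    exact hx (IsStronglyPEmbedded.mem_of_conj_mem emb (aLe ha) ((Subgroup.orderOf_mk a ha).symm.trans hk) ha1 hxa)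
  · intro L hL E hn hp
    set E' := E.map L.subtype with hE'
    have hnorm : A ≤ Subgroup.normalizer (E' : Set Γ) := by
      refine hL.aLe.trans ?_
      have := Subgroup.le_normalizer_map (H := E) L.subtype
      rwa [Subgroup.normalizer_eq_top_iff.2 hn, ← MonoidHom.range_eq_map, Subgroup.range_subtype] at this
    have hp' : IsPGroup p ↥(A ⊔ E' : Subgroup Γ) := pA.to_sup_of_normal_right' (hp.map _) hnorm
    have hle : A ⊔ E' ≤ Me := IsStronglyPEmbedded.pgroup_le emb hp' fun e =>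
      ne (eq_bot_iff.2 (e ▸ le_inf le_sup_left aLe))
    obtain ⟨x, hxL, hx⟩ := SetLike.not_le_iff_exists.1 hL.notLe
    rw [Subgroup.eq_bot_iff_forall]
    intro e he
    by_contra he1
    obtain ⟨k, hk⟩ := IsPGroup.iff_orderOf.1 hp ⟨e, he⟩
    rw [Subgroup.orderOf_mk, ← Subgroup.orderOf_coe] at hk
    exact hx (IsStronglyPEmbedded.mem_of_conj_mem emb (hle (Subgroup.mem_sup_right ⟨e, he, rfl⟩)) hk
      (fun h => he1 (Subtype.ext h))
      (hle (Subgroup.mem_sup_right ⟨⟨x, hxL⟩ * e * ⟨x, hxL⟩⁻¹, hn.conj_mem e he ⟨x, hxL⟩, rfl⟩)))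

end CfsgLib.LocalEven.StrongFF
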