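import Cfsg.Agent.Lib.LocalEven.StrongFF.Hyperplane
import Cfsg.Agent.Lib.LocalEven.StrongFF.Local

/-!
Any two conjugate fixed spaces from different cosets span the module; hyperplanes over their meet contain one such space.
-/

set_option autoImplicit false
set_option linter.unusedSectionVars false

namespace CfsgLib.LocalEven.StrongFF

open CfsgLib.Fusion (conjSub mem_conjSub conj_mem_conjSub conjSub_one card_conjSub)
open CfsgLib.LocalEven.MinOffender (fx fx_anti mem_fx_conj smul_mem_fx_conj card_fx_conj)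

variable {Γ : Type*} [Group Γ] [Finite Γ] {M : Type*} [AddCommGroup M] [DistribMulAction Γ M] [Finite M]

/-- The commutators with `b`. -/
def cm (M : Type*) [AddCommGroup M] [DistribMulAction Γ M] (b : Γ) : AddSubgroup M :=
  (DistribSMul.toAddMonoidHom M b - AddMonoidHom.id M).range

theorem mem_cm {b : Γ} {v : M} : v ∈ cm M b ↔ ∃ m, b • m - m = v := Iff.rfl

theorem line_one (A : Subgroup Γ) : line M A 1 = fx M A := congrArg (fx M) (conjSub_one A)

theorem mem_line {A : Subgroup Γ} {g : Γ} {m : M} : m ∈ line M A g ↔ g⁻¹ • m ∈ fx M A := mem_fx_conj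

theorem smul_mem_line {A : Subgroup Γ} {g k : Γ} {m : M} : g • m ∈ line M A k ↔ m ∈ line M A (g⁻¹ * k) := by
  rw [mem_line, mem_line, mul_inv_rev, inv_inv, mul_smul]

theorem smul_mem_cm {g a : Γ} {v : M} : g • v ∈ cm M (g * a * g⁻¹) ↔ v ∈ cm M a := by
  rw [mem_cm, mem_cm]
  constructor
  · rintro ⟨m, hm⟩
    refine ⟨g⁻¹ • m, smul_left_cancel g ?_⟩
    rw [← hm, smul_sub, mul_smul, mul_smul, smul_inv_smul]
  · rintro ⟨m, rfl⟩
    exact ⟨g • m, by rw [smul_sub, mul_smul, mul_smul, inv_smul_smul]⟩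

theorem card_cm_conj (g a : Γ) : Nat.card ↥(cm M (g * a * g⁻¹)) = Nat.card ↥(cm M a) :=
  (Nat.card_congr
    ({ toFun := fun v => ⟨g • (v : M), smul_mem_cm.2 v.2⟩
       invFun := fun v => ⟨g⁻¹ • (v : M), smul_mem_cm.1 (by rw [smul_inv_smul]; exact v.2)⟩
       left_inv := fun v => Subtype.ext (inv_smul_smul g (v : M))
       right_inv := fun v => Subtype.ext (smul_inv_smul g (v : M)) } : ↥(cm M a) ≃ ↥(cm M (g * a * g⁻¹)))).symm

theorem inv_mul_out {Me : Subgroup Γ} {h k : Γ} (hh : h ∈ Me) (hk : k ∉ Me) : h⁻¹ * k ∉ Me := fun h' => hk (by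
  have := mul_mem hh h'
  rwa [mul_inv_cancel_left] at this)

namespace Setup

variable {p : ℕ} [Fact p.Prime] {Me A : Subgroup Γ} (s : Setup p Me A M)
include s

theorem mul_out {a x : Γ} (ha : a ∈ A) (hx : x ∉ Me) : a * x ∉ Me := fun h => hx (by
  have := mul_mem (inv_mem (s.aLe ha)) h
  rwa [inv_mul_cancel_left] at this)

theorem conj_out {a x : Γ} (ha : a ∈ A) (ha1 : a ≠ 1) (hx : x ∉ Me) : x⁻¹ * (a * x) ∉ Me := fun h =>
  ha1 (s.eq_one_of_mem (x := x⁻¹) (fun h' => hx (by simpa using inv_mem h')) ha (by simpa [mul_assoc] using h))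

theorem exists_min_top : ∃ L, IsMin Me A L := by
  obtain ⟨L, -, hL⟩ := exists_min (Me := Me) (A := A) le_top fun h => s.proper (top_le_iff.1 h)
  exact ⟨L, hL⟩

theorem card_mod : Nat.card M = Nat.card ↥A * Nat.card ↥(fx M A) := by
  obtain ⟨L, hL⟩ := s.exists_min_top
  exact s.card_mod_of_min hL

theorem card_line (g : Γ) : Nat.card ↥(line M A g) = Nat.card ↥(fx M A) := card_fx_conj g A

/-- The meet of `fx A` with the space of an outside conjugate is the fixed space of a minimal overgroup. -/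
theorem pair {x : Γ} (hx : x ∉ Me) :
    ∃ L, IsMin Me A L ∧ fx M A ⊓ line M A x = fx M L ∧ fx M A ⊔ line M A x = ⊤ := by
  obtain ⟨L, hLK, hL⟩ := exists_min (Me := Me) (A := A) (K := A ⊔ conjSub x A) le_sup_left (s.not_le hx)
  have hle : fx M A ⊓ line M A x ≤ fx M L := fun v hv => by
    have h : A ⊔ conjSub x A ≤ MulAction.stabilizer Γ v :=
      sup_le (fun a ha => hv.1 a ha) (fun a ha => hv.2 a ha)
    exact fun g hg => h (hLK hg)
  have e := card_sup_mul_card_inf (fx M A) (line M A x)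
  rw [s.card_line x] at e
  have hmod := s.card_mod
  have hfix := s.card_fix hL
  have hX0 : 0 < Nat.card ↥(fx M A) := Nat.card_pos
  have h1 := AddSubgroup.card_le_card_addGroup (fx M A ⊔ line M A x)
  have h2 := Nat.le_of_dvd Nat.card_pos (AddSubgroup.card_dvd_of_le hle)
  refine ⟨L, hL, AddSubgroup.eq_of_le_of_card_ge hle ?_, AddSubgroup.eq_top_of_le_card _ ?_⟩
  · refine Nat.le_of_mul_le_mul_left ?_ (Nat.card_pos (α := M))
    calc Nat.card M * Nat.card ↥(fx M L) = Nat.card ↥(fx M A) * Nat.card ↥(fx M A) := by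
          rw [hmod]; nth_rw 2 [hfix]; ring
      _ = _ := e.symm
      _ ≤ _ := Nat.mul_le_mul_right _ h1
  · refine Nat.le_of_mul_le_mul_right (c := Nat.card ↥(fx M L)) ?_ Nat.card_pos
    calc Nat.card M * Nat.card ↥(fx M L) = Nat.card ↥(fx M A) * Nat.card ↥(fx M A) := by
          rw [hmod]; nth_rw 2 [hfix]; ring
      _ = _ := e.symm
      _ ≤ _ := Nat.mul_le_mul_left _ h2

/-- Conjugate fixed spaces from different cosets span everything. -/
theorem line_sup {g h : Γ} (hgh : g⁻¹ * h ∉ Me) : line M A g ⊔ line M A h = ⊤ := by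
  obtain ⟨L, -, -, htop⟩ := s.pair hgh
  rw [AddSubgroup.eq_top_iff']
  intro v
  obtain ⟨a, ha, b, hb, e⟩ := AddSubgroup.mem_sup.1 (htop ▸ AddSubgroup.mem_top (g⁻¹ • v))
  rw [show v = g • a + g • b by rw [← smul_add, e, smul_inv_smul]]
  exact AddSubgroup.add_mem_sup (smul_mem_fx_conj ha) (smul_mem_line.2 hb)

/-- A nontrivial element of `A` fixes only what `A` fixes. -/
theorem fix_of {a : Γ} (ha : a ∈ A) (ha1 : a ≠ 1) {v : M} (hv : a • v = v) : v ∈ fx M A := by
  obtain ⟨L, hL⟩ := s.exists_min_top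
  obtain ⟨x, hxL, hx⟩ := s.exists_out hL
  obtain ⟨u, hu, w, hw, rfl⟩ := s.exists_add hL hxL hx v
  rw [smul_add, hu a ha] at hv
  have hw' : w ∈ fx M L := s.semireg hL hxL hx ha ha1 hw (by
    rw [add_left_cancel hv, sub_self]; exact zero_mem _)
  exact add_mem hu (fx_anti hL.aLe hw')

theorem card_cm_of_mem {a : Γ} (ha : a ∈ A) (ha1 : a ≠ 1) : Nat.card ↥(cm M a) = Nat.card ↥A := by
  set φ := DistribSMul.toAddMonoidHom M a - AddMonoidHom.id M with hφ
  have hk : φ.ker = fx M A := by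
    ext m
    rw [AddMonoidHom.mem_ker]
    show a • m - m = 0 ↔ _
    rw [sub_eq_zero]
    exact ⟨s.fix_of ha ha1, fun hm => hm a ha⟩
  have e := AddSubgroup.card_eq_card_quotient_mul_card_addSubgroup φ.ker
  rw [Nat.card_congr (QuotientAddGroup.quotientKerEquivRange φ).toEquiv, hk, s.card_mod] at e
  exact (Nat.eq_of_mul_eq_mul_right Nat.card_pos e).symm

theorem cm_disjoint_of_mem {x a : Γ} (hx : x ∉ Me) (ha : a ∈ A) {v : M} (hv : v ∈ cm M a) (hv' : v ∈ line M A x) :
    v = 0 := by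
  obtain ⟨L, hL, hmeet, -⟩ := s.pair hx
  obtain ⟨y, hyL, hy⟩ := s.exists_out hL
  obtain ⟨m, rfl⟩ := mem_cm.1 hv
  by_cases ha1 : a = 1
  · subst ha1; rw [one_smul, sub_self]
  have h : a • m - m ∈ fx M L := hmeet ▸ ⟨fun b hb => s.quad hb ha m, hv'⟩
  obtain ⟨u, hu, w, hw, rfl⟩ := s.exists_add hL hyL hy m
  have e : a • (u + w) - (u + w) = a • w - w := by rw [smul_add, hu a ha]; abel
  rw [e] at h ⊢
  have hw' := s.semireg hL hyL hy ha ha1 hw h
  rw [hw' a (hL.aLe ha), sub_self]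

theorem cm_disjoint {g k b : Γ} (hgk : g⁻¹ * k ∉ Me) (hb : b ∈ conjSub g A) {v : M} (hv : v ∈ cm M b)
    (hv' : v ∈ line M A k) : v = 0 := by
  obtain ⟨a, ha, rfl⟩ : ∃ a ∈ A, g * a * g⁻¹ = b := ⟨g⁻¹ * b * g, mem_conjSub.1 hb, by group⟩
  rw [← smul_inv_smul g v] at hv hv' ⊢
  rw [s.cm_disjoint_of_mem hgk ha (smul_mem_cm.1 hv) (smul_mem_line.1 hv'), smul_zero]

theorem card_cm {g b : Γ} (hb : b ∈ conjSub g A) (hb1 : b ≠ 1) : Nat.card ↥(cm M b) = Nat.card ↥A := by
  obtain ⟨a, ha, rfl⟩ : ∃ a ∈ A, g * a * g⁻¹ = b := ⟨g⁻¹ * b * g, mem_conjSub.1 hb, by group⟩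
  rw [card_cm_conj, s.card_cm_of_mem ha fun e => hb1 (by rw [e]; group)]

theorem cm_sup_line {g k b : Γ} (hgk : g⁻¹ * k ∉ Me) (hb : b ∈ conjSub g A) (hb1 : b ≠ 1) :
    cm M b ⊔ line M A k = ⊤ := by
  refine AddSubgroup.eq_top_of_le_card _ (le_of_eq ?_)
  rw [card_sup_of_disjoint fun v hv hv' => s.cm_disjoint hgk hb hv hv', s.card_cm hb hb1, s.card_line,
    s.card_mod]

theorem mem_of_plane {g k b : Γ} {H : AddSubgroup M} (hH : IsPlane p H) (hb : b ∈ conjSub g A) (hb1 : b ≠ 1)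
    (h₁ : cm M b ≤ H) (h₂ : line M A k ≤ H) : g⁻¹ * k ∈ Me := by
  by_contra hgk
  exact hH.ne_top Fact.out (top_le_iff.1 (s.cm_sup_line hgk hb hb1 ▸ sup_le h₁ h₂))

theorem card_inf_line {U : AddSubgroup M} {k : Γ} (h : U ⊔ line M A k = ⊤) :
    Nat.card ↥A * Nat.card ↥(U ⊓ line M A k) = Nat.card ↥U := by
  have e := card_sup_mul_card_inf U (line M A k)
  rw [h, AddSubgroup.card_top, s.card_line, s.card_mod, mul_right_comm] at e
  exact Nat.eq_of_mul_eq_mul_right Nat.card_pos e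

variable {L : Subgroup Γ} (hL : IsMin Me A L) {x : Γ} (hxL : x ∈ L) (hx : x ∉ Me)
include hL hxL hx

/-- A subgroup over the common meet taking no more than its share of the other lines takes the whole share of the
first one. -/
theorem card_le_inf {U : AddSubgroup M} (hD : fx M L ≤ U)
    (hU : ∀ a ∈ A, Nat.card ↥A * Nat.card ↥(U ⊓ line M A (a * x)) ≤ Nat.card ↥U) :
    Nat.card ↥A * Nat.card ↥(fx M L) ≤ Nat.card ↥(U ⊓ fx M A) := by
  classical
  haveI : Fintype M := Fintype.ofFinite M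
  haveI : Fintype Γ := Fintype.ofFinite Γ
  set q := Nat.card ↥A with hq
  set D := fx M L with hDdef
  let fs : AddSubgroup M → Finset M := fun W => Finset.univ.filter (· ∈ W)
  have hfs : ∀ W : AddSubgroup M, (fs W).card = Nat.card ↥W := fun W => by
    rw [Nat.card_eq_fintype_card]
    exact (Fintype.card_subtype fun m => m ∈ W).symm
  let As : Finset Γ := Finset.univ.filter (· ∈ A)
  have hAs : As.card = q := by
    rw [hq, Nat.card_eq_fintype_card]
    exact (Fintype.card_subtype fun m => m ∈ A).symm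
  have hsub : fs U ⊆ fs (U ⊓ fx M A) ∪ As.biUnion fun a => fs (U ⊓ line M A (a * x)) \ fs D := by
    intro v hv
    simp only [fs, Finset.mem_filter, Finset.mem_univ, true_and] at hv
    by_cases hvX : v ∈ fx M A
    · exact Finset.mem_union_left _ (by simpa [fs] using ⟨hv, hvX⟩)
    obtain ⟨a, ha, h1, h2⟩ := s.cover hL hxL hx hvX
    exact Finset.mem_union_right _ (Finset.mem_biUnion.2 ⟨a, by simpa [As] using ha, by
      simpa [fs, hDdef] using ⟨⟨hv, h1⟩, h2⟩⟩)
  have hle := (Finset.card_le_card hsub).trans ((Finset.card_union_le _ _).trans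
    (Nat.add_le_add_left Finset.card_biUnion_le _))
  rw [hfs, hfs] at hle
  have hterm : ∀ a ∈ As, q * (fs (U ⊓ line M A (a * x)) \ fs D).card + q * Nat.card ↥D ≤ Nat.card ↥U := by
    intro a ha
    simp only [As, Finset.mem_filter, Finset.mem_univ, true_and] at ha
    have h1 : fs D ⊆ fs (U ⊓ line M A (a * x)) := fun v hv => by
      simp only [fs, Finset.mem_filter, Finset.mem_univ, true_and] at hv ⊢
      exact ⟨hD hv, s.fx_le_line hL (mul_mem (hL.aLe ha) hxL) hv⟩
    rw [Finset.card_sdiff_of_subset h1, hfs, hfs, ← Nat.mul_add,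
      Nat.sub_add_cancel (by rw [← hfs, ← hfs]; exact Finset.card_le_card h1)]
    exact hU a ha
  have hsum := Finset.sum_le_sum hterm
  rw [Finset.sum_add_distrib, ← Finset.mul_sum, Finset.sum_const, Finset.sum_const, hAs, smul_eq_mul,
    smul_eq_mul, ← Nat.mul_add] at hsum
  have hsum' := Nat.le_of_mul_le_mul_left hsum (Nat.card_pos (α := ↥A))
  omega

/-- A hyperplane over the common meet contains a line. -/
theorem plane_line {H : AddSubgroup M} (hH : IsPlane p H) (hD : fx M L ≤ H) :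
    ∃ k, (k = 1 ∨ ∃ a ∈ A, k = a * x) ∧ line M A k ≤ H := by
  by_cases hex : ∃ a ∈ A, line M A (a * x) ≤ H
  · obtain ⟨a, ha, hle⟩ := hex
    exact ⟨a * x, Or.inr ⟨a, ha, rfl⟩, hle⟩
  push Not at hex
  refine ⟨1, Or.inl rfl, ?_⟩
  rw [line_one]
  have h := s.card_le_inf hL hxL hx hD fun a ha => by
    have h1 := mul_card_le s.exp (Fact.out : p.Prime) (inf_le_right : H ⊓ line M A (a * x) ≤ _)
      (fun e => hex a ha (e ▸ inf_le_left))
    rw [s.card_line] at h1
    refine Nat.le_of_mul_le_mul_left ?_ (Fact.out : p.Prime).pos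
    rw [hH, s.card_mod, mul_left_comm]
    exact Nat.mul_le_mul_left _ h1
  rw [← s.card_fix hL] at h
  exact inf_eq_right.1 (AddSubgroup.eq_of_le_of_card_ge inf_le_right h)

/-- A hyperplane over the meet of a conjugate space with the common meet, not containing that space, holds its
meet with some line. -/
theorem plane_decomp {H C : AddSubgroup M} (hH : IsPlane p H) (hV : C ⊓ fx M L ≤ H) (hC : ¬ C ≤ H) :
    ∃ k, (k = 1 ∨ ∃ a ∈ A, k = a * x) ∧ C ⊓ line M A k ≤ H := by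
  obtain ⟨v₀, hv₀C, hv₀H⟩ := SetLike.not_le_iff_exists.1 hC
  have hv₀ : v₀ ∉ (H ⊓ C) ⊔ fx M L := fun h => by
    obtain ⟨a, ha, b, hb, e⟩ := AddSubgroup.mem_sup.1 h
    have hbC : b ∈ C := by
      rw [show b = v₀ - a by rw [← e]; abel]
      exact sub_mem hv₀C ha.2
    exact hv₀H (e ▸ add_mem ha.1 (hV ⟨hbC, hb⟩))
  obtain ⟨J, hJ, hv₀J, hJp⟩ := exists_plane s.exp (Fact.out : p.Prime) hv₀
  obtain ⟨k, hk, hkJ⟩ := s.plane_line hL hxL hx hJp (le_sup_right.trans hJ)
  refine ⟨k, hk, fun v hv => ?_⟩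
  by_contra hvH
  apply hv₀J
  obtain ⟨a, ha, b, hb, e⟩ := AddSubgroup.mem_sup.1
    (hH.sup_zmultiples s.exp (Fact.out : p.Prime) hvH ▸ AddSubgroup.mem_top v₀ : v₀ ∈ H ⊔ AddSubgroup.zmultiples v)
  obtain ⟨n, rfl⟩ := AddSubgroup.mem_zmultiples_iff.1 hb
  have haC : a ∈ C := by
    rw [show a = v₀ - n • v by rw [← e]; abel]
    exact sub_mem hv₀C (C.zsmul_mem hv.1 n)
  rw [← e]
  exact add_mem (hJ (AddSubgroup.mem_sup_left ⟨ha, haC⟩)) (J.zsmul_mem (hkJ hv.2) n)

omit hL hxL hx in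
/-- A hyperplane over the meet of two spaces from different cosets contains the first or a line outside its coset. -/
theorem plane_cover {g h : Γ} (hgh : g⁻¹ * h ∉ Me) {H : AddSubgroup M} (hH : IsPlane p H)
    (hle : line M A g ⊓ line M A h ≤ H) : ∃ k, line M A k ≤ H ∧ (k = g ∨ g⁻¹ * k ∉ Me) := by
  obtain ⟨L, hL, hmeet, -⟩ := s.pair hgh
  obtain ⟨y, hyL, hy⟩ := s.exists_out hL
  let H' := H.comap (DistribSMul.toAddMonoidHom M g)
  have hH' : IsPlane p H' := by
    show p * Nat.card ↥H' = _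
    rw [← hH]
    congr 1
    exact Nat.card_congr
      { toFun := fun v => ⟨g • (v : M), v.2⟩
        invFun := fun v => ⟨g⁻¹ • (v : M), by
          show g • g⁻¹ • (v : M) ∈ H
          rw [smul_inv_smul]; exact v.2⟩
        left_inv := fun v => Subtype.ext (inv_smul_smul g (v : M))
        right_inv := fun v => Subtype.ext (smul_inv_smul g (v : M)) }
  obtain ⟨k, hk, hkH⟩ := s.plane_line hL hyL hy hH' fun v hv => by
    have hv' : v ∈ fx M A ⊓ line M A (g⁻¹ * h) := hmeet.symm ▸ hv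
    exact hle ⟨smul_mem_fx_conj hv'.1, smul_mem_line.2 hv'.2⟩
  refine ⟨g * k, fun v hv => ?_, hk.imp (fun e => by rw [e, mul_one]) fun ⟨a, ha, hk'⟩ => by
    rw [inv_mul_cancel_left, hk']; exact s.mul_out ha hy⟩
  have h1 := hkH (show g⁻¹ • v ∈ line M A k from smul_mem_line.2 (by rwa [inv_inv]))
  rw [AddSubgroup.mem_comap, DistribSMul.toAddMonoidHom_apply, smul_inv_smul] at h1
  exact h1

end Setup

end CfsgLib.LocalEven.StrongFF
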