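import Cfsg.Agent.Lib.LocalEven.StrongFF.Lines

/-!
A minimal overgroup outside the strongly embedded subgroup is everything, so the group is `SL₂` on its natural module.
-/

set_option autoImplicit false
set_option linter.unusedSectionVars false

namespace CfsgLib.LocalEven.StrongFF

open CfsgLib.Fusion (conjSub mem_conjSub conj_mem_conjSub conjSub_one card_conjSub)
open CfsgLib.LocalEven.MinOffender (fx fx_anti mem_fx_conj smul_mem_fx_conj)
open Matrix (SpecialLinearGroup)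

variable {Γ : Type*} [Group Γ] [Finite Γ] {M : Type*} [AddCommGroup M] [DistribMulAction Γ M] [Finite M]

namespace Setup

variable {p : ℕ} [Fact p.Prime] {Me A : Subgroup Γ} (s : Setup p Me A M)
include s

variable {L : Subgroup Γ} (hL : IsMin Me A L) {x : Γ} (hxL : x ∈ L) (hx : x ∉ Me)
include hL hxL hx

/-- Every element outside `Me` lies in a coset met by the minimal overgroup. -/
theorem exists_rep {g : Γ} (hg : g ∉ Me) : ∃ a ∈ A, (a * x)⁻¹ * g ∈ Me := by
  by_contra hc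
  push Not at hc
  set C := line M A g
  set D := fx M L
  set U := C ⊔ D
  set q := Nat.card ↥A with hq
  have hq1 : 1 < q := s.card_fix_pos hL
  have hUtop : ∀ {k : Γ}, k⁻¹ * g ∉ Me → q * Nat.card ↥(U ⊓ line M A k) = Nat.card ↥U := fun {k} hk =>
    s.card_inf_line (top_le_iff.1 (by
      rw [← s.line_sup hk, sup_comm]; exact sup_le_sup_right (le_sup_left : C ≤ U) _))
  have h1 : q * Nat.card ↥D ≤ Nat.card ↥(U ⊓ fx M A) :=
    s.card_le_inf hL hxL hx le_sup_right fun a ha => (hUtop (hc a ha)).le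
  have h2 : q * Nat.card ↥(U ⊓ fx M A) = Nat.card ↥U := by
    have := hUtop (k := 1) (by rwa [inv_one, one_mul])
    rwa [line_one] at this
  have hUt : U = ⊤ := AddSubgroup.eq_top_of_le_card _ (by
    rw [s.card_mod, s.card_fix hL, ← h2]; exact Nat.mul_le_mul_left _ h1)
  have hV : q * Nat.card ↥(C ⊓ D) = Nat.card ↥D := by
    have e := card_sup_mul_card_inf C D
    rw [show C ⊔ D = ⊤ from hUt, AddSubgroup.card_top, s.card_line, s.card_mod, mul_right_comm,
      mul_comm _ (Nat.card ↥(fx M A))] at e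
    exact Nat.eq_of_mul_eq_mul_left Nat.card_pos e
  obtain ⟨a, ha, ha1⟩ := s.exists_ne_one
  have hb : x * a * x⁻¹ ∈ conjSub x A := conj_mem_conjSub ha
  have hb1 : x * a * x⁻¹ ≠ 1 := fun e => ha1 (conj_eq_one_iff.1 e)
  set W := (C ⊓ D) ⊔ cm M a ⊔ cm M (x * a * x⁻¹)
  have hW : Nat.card ↥W < Nat.card M := by
    calc Nat.card ↥W ≤ Nat.card ↥(C ⊓ D) * q * q := (card_sup_le _ _).trans (by
          rw [s.card_cm hb hb1]
          refine Nat.mul_le_mul_right _ ((card_sup_le _ _).trans ?_)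
          rw [s.card_cm_of_mem ha ha1])
      _ = q * Nat.card ↥D := by rw [← hV]; ring
      _ = Nat.card ↥(fx M A) := (s.card_fix hL).symm
      _ < q * Nat.card ↥(fx M A) := lt_mul_of_one_lt_left Nat.card_pos hq1
      _ = Nat.card M := s.card_mod.symm
  obtain ⟨v₀, hv₀⟩ : ∃ v₀, v₀ ∉ W := by
    by_contra hall
    push Not at hall
    rw [(AddSubgroup.eq_top_iff' W).2 hall, AddSubgroup.card_top] at hW
    exact lt_irrefl _ hW
  obtain ⟨H, hWH, -, hH⟩ := exists_plane s.exp (Fact.out : p.Prime) hv₀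
  obtain ⟨k, hk⟩ : ∃ k, line M A k ≤ H := by
    by_cases hCH : C ≤ H
    · exact ⟨g, hCH⟩
    obtain ⟨k₀, hk₀, hle⟩ := s.plane_decomp hL hxL hx hH
      ((le_sup_left.trans le_sup_left).trans hWH) hCH
    rcases hk₀ with rfl | ⟨a₀, ha₀, rfl⟩
    · obtain ⟨k, hk, -⟩ := s.plane_cover (g := g) (h := 1) (fun h => hg (by simpa using inv_mem h)) hH hle
      exact ⟨k, hk⟩
    · obtain ⟨k, hk, -⟩ := s.plane_cover (g := g) (h := a₀ * x)
        (fun h => hc a₀ ha₀ (by simpa using inv_mem h)) hH hle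
      exact ⟨k, hk⟩
  have h3 := s.mem_of_plane (g := 1) hH (by rwa [conjSub_one]) ha1 ((le_sup_right.trans le_sup_left).trans hWH) hk
  rw [inv_one, one_mul] at h3
  have h4 := s.mem_of_plane hH hb hb1 (le_sup_right.trans hWH) hk
  exact hx (by simpa using mul_mem h3 (inv_mem h4))


/-- `A` is a Sylow `p`-subgroup, and the only one over itself. -/
theorem sylow_eq (hemb : Cfsg.IsStronglyPEmbedded p Me) (Q : Sylow p Γ) (hQ : A ≤ (Q : Subgroup Γ)) : (Q : Subgroup Γ) = A := by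
  refine le_antisymm (fun t ht => ?_) hQ
  have hQM : (Q : Subgroup Γ) ≤ Me :=
    IsStronglyPEmbedded.pgroup_le hemb Q.2 fun e => s.ne (eq_bot_iff.2 (e ▸ le_inf hQ s.aLe))
  obtain ⟨a, ha, h⟩ := s.exists_rep hL hxL hx (g := t * x) fun h => hx (by
    have := mul_mem (inv_mem (hQM ht)) h
    rwa [inv_mul_cancel_left] at this)
  have hu : a⁻¹ * t ∈ (Q : Subgroup Γ) := mul_mem (inv_mem (hQ ha)) ht
  by_contra htA
  obtain ⟨k, hk⟩ := IsPGroup.iff_orderOf.1 Q.2 ⟨_, hu⟩
  refine hx ?_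
  have h' := IsStronglyPEmbedded.mem_of_conj_mem hemb (g := x⁻¹) (hQM hu) ((Subgroup.orderOf_mk _ hu).symm.trans hk)
    (fun e => htA (by rw [inv_mul_eq_one.1 e] at ha; exact ha))
    (by rw [inv_inv]; simpa [mul_assoc] using h)
  simpa using inv_mem h'

/-- `A` and a conjugate by an element of `Me` stabilise a common series. -/
theorem conj_stab {h : Γ} (hh : h ∈ Me) :
    ∃ P : AddSubgroup M, (∀ a ∈ A, (∀ m : M, a • m - m ∈ P) ∧ ∀ v ∈ P, a • v = v) ∧
      ∀ a ∈ conjSub h A, (∀ m : M, a • m - m ∈ P) ∧ ∀ v ∈ P, a • v = v := by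
  set C := line M A h
  set D := fx M L
  set X := fx M A with hX
  set P := X ⊓ C
  set V₀ := C ⊓ D
  set U := C ⊔ D with hU
  set q := Nat.card ↥A with hq
  have hq0 : 0 < q := Nat.card_pos
  have hDX : D ≤ X := fx_anti hL.aLe
  have hV0P : V₀ ≤ P := le_inf (inf_le_right.trans hDX) inf_le_left
  -- the orders
  have hXU : X ≤ U := by
    have h1 := s.card_le_inf hL hxL hx (U := U) le_sup_right fun a ha =>
      (s.card_inf_line (top_le_iff.1 (by
        rw [← s.line_sup (inv_mul_out hh (s.mul_out ha hx))]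
        exact sup_le_sup_right le_sup_left _))).le
    rw [← s.card_fix hL] at h1
    exact inf_eq_right.1 (AddSubgroup.eq_of_le_of_card_ge inf_le_right h1)
  have hP : Nat.card ↥P = q * Nat.card ↥V₀ := by
    have e1 := card_sup_mul_card_inf C D
    have e2 := card_sup_mul_card_inf C X
    rw [show C ⊔ X = U from le_antisymm (sup_le le_sup_left hXU) (sup_le_sup_left hDX C), inf_comm C X,
      s.card_fix hL] at e2
    refine Nat.eq_of_mul_eq_mul_left (Nat.card_pos (α := ↥U)) ?_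
    rw [mul_left_comm, e1, mul_left_comm]
    exact e2
  have hPC : ∀ {g b : Γ}, g ∉ Me → b ∈ conjSub g A → ∀ v ∈ cm M b, v ∈ X → v = 0 :=
    fun {g b} hg hb v hv hv' => s.cm_disjoint (k := 1)
      (fun h' => hg (by simpa using inv_mem h')) hb hv (by rwa [line_one])
  have hPb : ∀ {g b : Γ}, g ∉ Me → b ∈ conjSub g A → b ≠ 1 → Nat.card ↥(P ⊔ cm M b) = q * Nat.card ↥P := by
    intro g b hg hb hb1
    rw [card_sup_of_disjoint (fun v (h1 : v ∈ P) h2 => hPC hg hb v h2 h1.1), s.card_cm hb hb1, mul_comm]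
  -- two outside elements from different cosets see the same subgroup over the meet
  have hpair : ∀ {g g' b b' : Γ}, g ∉ Me → g' ∉ Me → g⁻¹ * g' ∉ Me → b ∈ conjSub g A → b ≠ 1 →
      b' ∈ conjSub g' A → b' ≠ 1 → P ⊔ cm M b = P ⊔ cm M b' := by
    intro g g' b b' hg hg' hgg hb hb1 hb' hb1'
    set W := V₀ ⊔ cm M b ⊔ cm M b'
    have hWcard : Nat.card ↥W ≤ q * Nat.card ↥P :=
      calc Nat.card ↥W ≤ Nat.card ↥V₀ * q * q := (card_sup_le _ _).trans (by
            rw [s.card_cm hb' hb1']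
            refine Nat.mul_le_mul_right _ ((card_sup_le _ _).trans ?_)
            rw [s.card_cm hb hb1])
        _ = q * Nat.card ↥P := by rw [hP]; ring
    have hPW : P ≤ W := by
      intro v₀ hv₀
      by_contra hv₀W
      obtain ⟨H, hWH, hv₀H, hH⟩ := exists_plane s.exp (Fact.out : p.Prime) hv₀W
      have hCH : ¬ C ≤ H := fun hle => hv₀H (hle hv₀.2)
      obtain ⟨k₀, hk₀, hle⟩ := s.plane_decomp hL hxL hx hH ((le_sup_left.trans le_sup_left).trans hWH) hCH
      rcases hk₀ with rfl | ⟨a, ha, rfl⟩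
      · rw [line_one] at hle
        exact hv₀H (hle ⟨hv₀.2, hv₀.1⟩)
      obtain ⟨k, hk, hk'⟩ := s.plane_cover (g := h) (h := a * x) (inv_mul_out hh (s.mul_out ha hx)) hH hle
      rcases hk' with rfl | -
      · exact hCH hk
      have h3 := s.mem_of_plane hH hb hb1 ((le_sup_right.trans le_sup_left).trans hWH) hk
      have h4 := s.mem_of_plane hH hb' hb1' (le_sup_right.trans hWH) hk
      exact hgg (by simpa [mul_assoc] using mul_mem h3 (inv_mem h4))
    have e1 : P ⊔ cm M b = W := AddSubgroup.eq_of_le_of_card_ge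
      (sup_le hPW (le_sup_right.trans le_sup_left)) (by rw [hPb hg hb hb1]; exact hWcard)
    have e2 : P ⊔ cm M b' = W := AddSubgroup.eq_of_le_of_card_ge
      (sup_le hPW le_sup_right) (by rw [hPb hg' hb' hb1']; exact hWcard)
    rw [e1, e2]
  obtain ⟨a₁, ha₁, ha₁1⟩ := s.exists_ne_one
  set b₀ := x * a₁ * x⁻¹
  have hb₀ : b₀ ∈ conjSub x A := conj_mem_conjSub ha₁
  have hb₀1 : b₀ ≠ 1 := fun e => ha₁1 (conj_eq_one_iff.1 e)
  set W := P ⊔ cm M b₀ with hWdef
  have hx₁ : a₁ * x ∉ Me := s.mul_out ha₁ hx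
  have hW : ∀ {g b : Γ}, g ∉ Me → b ∈ conjSub g A → cm M b ≤ W := by
    intro g b hg hb
    by_cases hb1 : b = 1
    · subst hb1
      rintro v ⟨m, rfl⟩
      show (1 : Γ) • m - m ∈ W
      rw [one_smul, sub_self]; exact zero_mem _
    by_cases hgx : g⁻¹ * x ∈ Me
    · set b₁ := (a₁ * x) * a₁ * (a₁ * x)⁻¹
      have hb₁ : b₁ ∈ conjSub (a₁ * x) A := conj_mem_conjSub ha₁
      have hb₁1 : b₁ ≠ 1 := fun e => ha₁1 (conj_eq_one_iff.1 e)
      have hgx₁ : g⁻¹ * (a₁ * x) ∉ Me := fun h' => s.conj_out ha₁ ha₁1 hx (by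
        have := mul_mem (inv_mem hgx) h'
        simpa [mul_assoc] using this)
      rw [hWdef, hpair hx hx₁ (s.conj_out ha₁ ha₁1 hx) hb₀ hb₀1 hb₁ hb₁1, ← hpair hg hx₁ hgx₁ hb hb1 hb₁ hb₁1]
      exact le_sup_right
    · rw [hWdef, ← hpair hg hx hgx hb hb1 hb₀ hb₀1]
      exact le_sup_right
  let N : Subgroup Γ :=
    { carrier := {g | ∀ m : M, g • m - m ∈ W}
      one_mem' := fun m => by simp [zero_mem]
      mul_mem' := fun {a b} ha hb m => by
        rw [show (a * b) • m - m = (a • b • m - b • m) + (b • m - m) by rw [mul_smul]; abel]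
        exact add_mem (ha _) (hb m)
      inv_mem' := fun {a} ha m => by
        rw [show a⁻¹ • m - m = -(a • (a⁻¹ • m) - a⁻¹ • m) by rw [smul_inv_smul]; abel]
        exact neg_mem (ha _) }
  have hN : ∀ {g : Γ}, g ∉ Me → conjSub g A ≤ N := fun hg b hb m => hW hg hb (mem_cm.2 ⟨m, rfl⟩)
  -- both groups are generated by outside conjugates
  have hAN : ∀ {g : Γ}, g ∈ Me → conjSub g A ≤ N := by
    intro g hg
    have hK : A ≤ conjSub x A ⊔ conjSub (a₁ * x) A := by
      have hy : x⁻¹ * (a₁ * x) ∈ L := mul_mem (inv_mem hxL) (mul_mem (hL.aLe ha₁) hxL)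
      intro a ha
      have h1 : x⁻¹ * a * x ∈ A ⊔ conjSub (x⁻¹ * (a₁ * x)) A := by
        rw [s.gen_eq hL hy (s.conj_out ha₁ ha₁1 hx)]
        exact mul_mem (mul_mem (inv_mem hxL) (hL.aLe ha)) hxL
      have h2 := CfsgLib.Fusion.conj_mem_conjSub (g := x) h1
      rw [show x * (x⁻¹ * a * x) * x⁻¹ = a by group, CfsgLib.Fusion.conjSub, Subgroup.map_sup] at h2
      change a ∈ conjSub x A ⊔ conjSub x (conjSub _ A) at h2
      rwa [CfsgLib.Fusion.conjSub_conjSub, mul_inv_cancel_left] at h2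
    refine (CfsgLib.Fusion.conjSub_mono g hK).trans ?_
    rw [CfsgLib.Fusion.conjSub, Subgroup.map_sup]
    refine sup_le ?_ ?_ <;>
      · change conjSub g (conjSub _ A) ≤ N
        rw [CfsgLib.Fusion.conjSub_conjSub]
        exact hN fun h' => by
          have := mul_mem (inv_mem hg) h'
          rw [inv_mul_cancel_left] at this
          first | exact hx this | exact hx₁ this
  have hA : ∀ a ∈ A, ∀ m : M, a • m - m ∈ P := by
    intro a ha m
    have h1 : a • m - m ∈ W := hAN (one_mem Me) (by rwa [conjSub_one]) m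
    have h2 : a • m - m ∈ X := fun c hc => s.quad hc ha m
    obtain ⟨u, hu, w, hw, e⟩ := AddSubgroup.mem_sup.1 h1
    have hw0 : w = 0 := hPC hx hb₀ w hw (by
      rw [show w = (a • m - m) - u by rw [← e]; abel]
      exact sub_mem h2 hu.1)
    rw [← e, hw0, add_zero]
    exact hu
  have hA' : ∀ a ∈ conjSub h A, ∀ m : M, a • m - m ∈ P := by
    intro a ha m
    have h1 : a • m - m ∈ W := hAN hh ha m
    have h2 : a • m - m ∈ C := by
      rw [mem_line, smul_sub]
      intro c hc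
      have := s.quad hc (mem_conjSub.1 ha) (h⁻¹ • m)
      rwa [← mul_smul (h⁻¹ * a * h), show h⁻¹ * a * h * h⁻¹ = h⁻¹ * a by group, mul_smul] at this
    obtain ⟨u, hu, w, hw, e⟩ := AddSubgroup.mem_sup.1 h1
    have hw0 : w = 0 := s.cm_disjoint (g := x) (k := h) (fun h' => hx (by
        have := mul_mem hh (inv_mem h')
        rwa [mul_inv_rev, inv_inv, mul_inv_cancel_left] at this)) hb₀ hw (by
      rw [show w = (a • m - m) - u by rw [← e]; abel]
      exact sub_mem h2 hu.2)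
    rw [← e, hw0, add_zero]
    exact hu
  exact ⟨P, fun a ha => ⟨hA a ha, fun v hv => hv.1 a ha⟩, fun a ha => ⟨hA' a ha, fun v hv => hv.2 a ha⟩⟩

/-- Conjugates of `A` by elements of `Me` commute with `A`. -/
theorem conj_comm {h : Γ} (hh : h ∈ Me) : ∀ a ∈ A, ∀ b ∈ conjSub h A, a * b = b * a := by
  obtain ⟨P, h1, h2⟩ := s.conj_stab hL hxL hx hh
  intro a ha b hb
  rw [← mul_inv_eq_one]
  refine s.faithful _ fun m => ?_
  obtain ⟨n, rfl⟩ : ∃ n, (b * a) • n = m := ⟨(b * a)⁻¹ • m, smul_inv_smul _ _⟩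
  rw [← mul_smul, inv_mul_cancel_right, mul_smul, mul_smul,
    show b • n = n + (b • n - n) by abel, show a • n = n + (a • n - n) by abel, smul_add, smul_add,
    (h1 a ha).2 _ ((h2 b hb).1 n), (h2 b hb).2 _ ((h1 a ha).1 n)]
  abel

/-- `A` is normal in `Me`. -/
theorem conj_eq (hemb : Cfsg.IsStronglyPEmbedded p Me) {h : Γ} (hh : h ∈ Me) : conjSub h A = A := by
  obtain ⟨P, h1', h2'⟩ := s.conj_stab hL hxL hx hh
  let N₂ : Subgroup Γ :=
    { carrier := {g | (∀ m : M, g • m - m ∈ P) ∧ ∀ v ∈ P, g • v = v}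
      one_mem' := ⟨fun m => by simp [zero_mem], fun v _ => one_smul Γ v⟩
      mul_mem' := fun {a b} ha hb => ⟨fun m => by
          rw [show (a * b) • m - m = (a • b • m - b • m) + (b • m - m) by rw [mul_smul]; abel]
          exact add_mem (ha.1 _) (hb.1 m),
        fun v hv => by rw [mul_smul, hb.2 v hv, ha.2 v hv]⟩
      inv_mem' := fun {a} ha => ⟨fun m => by
          rw [show a⁻¹ • m - m = -(a • (a⁻¹ • m) - a⁻¹ • m) by rw [smul_inv_smul]; abel]
          exact neg_mem (ha.1 _),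
        fun v hv => by rw [inv_smul_eq_iff, ha.2 v hv]⟩ }
  have hN2 : IsPGroup p ↥N₂ := fun e => ⟨1, Subtype.ext (by
    rw [pow_one, Subgroup.coe_pow, Subgroup.coe_one]
    exact s.faithful _ fun m => pow_smul_of_series s.exp (e.2.2 _ (e.2.1 m)))⟩
  have h1 : A ≤ N₂ := fun a ha => h1' a ha
  have h2 : conjSub h A ≤ N₂ := fun a ha => h2' a ha
  obtain ⟨Q, hQ⟩ := hN2.exists_le_sylow
  have hQA := s.sylow_eq hL hxL hx hemb Q (h1.trans hQ)
  exact Subgroup.eq_of_le_of_card_ge (hQA ▸ h2.trans hQ) (card_conjSub h A).ge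

omit hxL hx in
/-- The minimal overgroup is the whole group. -/
theorem eq_top (hemb : Cfsg.IsStronglyPEmbedded p Me) (hgen : Subgroup.closure {t : Γ | ∃ k, orderOf t = p ^ k} = ⊤) : L = ⊤ := by
  obtain ⟨x, hxL, hx⟩ := s.exists_out hL
  have hconj : ∀ g, conjSub g A ≤ L := by
    intro g
    by_cases hg : g ∈ Me
    · exact (s.conj_eq hL hxL hx hemb hg).le.trans hL.aLe
    · obtain ⟨a, ha, h⟩ := s.exists_rep hL hxL hx hg
      rw [show g = (a * x) * ((a * x)⁻¹ * g) by group, ← CfsgLib.Fusion.conjSub_conjSub, s.conj_eq hL hxL hx hemb h]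
      intro t ht
      obtain ⟨b, hb, rfl⟩ := ht
      exact mul_mem (mul_mem (mul_mem (hL.aLe ha) hxL) (hL.aLe hb)) (inv_mem (mul_mem (hL.aLe ha) hxL))
  rw [eq_top_iff, ← hgen, Subgroup.closure_le]
  rintro t ⟨k, hk⟩
  have hp : IsPGroup p ↥(Subgroup.zpowers t) := CfsgLib.LocalEven.isPGroup_zpowers_of_orderOf hk
  obtain ⟨P, hP⟩ := hp.exists_le_sylow
  obtain ⟨Q, hQ⟩ := s.pA.exists_le_sylow
  obtain ⟨g, hg⟩ := MulAction.exists_smul_eq Γ Q P
  have ht := hP (Subgroup.mem_zpowers t)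
  rw [← hg, Sylow.coe_subgroup_smul, s.sylow_eq hL hxL hx hemb Q hQ] at ht
  exact hconj g ht

omit hL hxL hx in
/-- The group is `SL₂` on its natural module. -/
theorem natural (hemb : Cfsg.IsStronglyPEmbedded p Me) (hgen : Subgroup.closure {t : Γ | ∃ k, orderOf t = p ^ k} = ⊤) :
    ∃ (F : Type) (_ : Field F) (_ : Fintype F), Fintype.card F = Nat.card ↥A ∧
      ∃ (ρ : Γ →* SpecialLinearGroup (Fin 2) F) (ψ : M →+ (Fin 2 → F)), Function.Bijective ρ ∧
        Function.Surjective ψ ∧ (∀ m, ψ m = 0 ↔ m ∈ fx M (⊤ : Subgroup Γ)) ∧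
        ∀ (g : Γ) (m : M), ψ (g • m) = (ρ g).1.mulVec (ψ m) := by
  obtain ⟨L, hL⟩ := s.exists_min_top
  have e := s.eq_top hL hemb hgen
  subst e
  obtain ⟨-, F, iF, iFF, hF, ρ, ψ, hρ, hψs, hψk, hψ⟩ := (s.core hL).main
  refine ⟨F, iF, iFF, hF.trans (Nat.card_congr (Subgroup.subgroupOfEquivOfLe le_top).toEquiv),
    ρ.comp (Subgroup.topEquiv (G := Γ)).symm.toMonoidHom, ψ, hρ.comp (Subgroup.topEquiv (G := Γ)).symm.bijective, hψs,
    fun m => ?_, fun g m => ?_⟩
  · rw [hψk, fx_top_subgroup]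
  · exact hψ (⟨g, Subgroup.mem_top g⟩ : ↥(⊤ : Subgroup Γ)) m

end Setup

end CfsgLib.LocalEven.StrongFF
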