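import Cfsg.Agent.Lib.LocalEven.MinOffender.Basic

/-!
Hyperplanes and products of subgroups in a finite module of prime exponent.
-/

set_option autoImplicit false
set_option linter.unusedSectionVars false

namespace CfsgLib.LocalEven.StrongFF

variable {M : Type*} [AddCommGroup M] [Finite M]

theorem card_sup_mul_card_inf (H K : AddSubgroup M) :
    Nat.card ↥(H ⊔ K) * Nat.card ↥(H ⊓ K) = Nat.card ↥H * Nat.card ↥K := by
  let φ : ↥H × ↥K →+ ↥(H ⊔ K) :=
    { toFun := fun z => ⟨(z.1 : M) + z.2, AddSubgroup.add_mem_sup z.1.2 z.2.2⟩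
      map_zero' := Subtype.ext (add_zero 0)
      map_add' := fun a b => Subtype.ext (by
        simp only [Prod.fst_add, Prod.snd_add, AddSubgroup.coe_add]; abel) }
  have hs : Function.Surjective φ := by
    rintro ⟨m, hm⟩
    obtain ⟨a, ha, b, hb, rfl⟩ := AddSubgroup.mem_sup.1 hm
    exact ⟨(⟨a, ha⟩, ⟨b, hb⟩), rfl⟩
  have hk : ∀ z : ↥φ.ker, (z.1.1 : M) = -(z.1.2 : M) := fun z =>
    eq_neg_of_add_eq_zero_left (congrArg Subtype.val z.2)
  let e : ↥φ.ker ≃ ↥(H ⊓ K) :=
    { toFun := fun z => ⟨(z.1.1 : M), z.1.1.2, hk z ▸ K.neg_mem z.1.2.2⟩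
      invFun := fun v => ⟨(⟨v, v.2.1⟩, ⟨-(v : M), K.neg_mem v.2.2⟩), Subtype.ext (add_neg_cancel (v : M))⟩
      left_inv := fun z => Subtype.ext (Prod.ext rfl (Subtype.ext (by
        show -(z.1.1 : M) = (z.1.2 : M)
        rw [hk z, neg_neg])))
      right_inv := fun _ => rfl }
  rw [← Nat.card_prod (↥H) (↥K), AddSubgroup.card_eq_card_quotient_mul_card_addSubgroup φ.ker,
    Nat.card_congr (QuotientAddGroup.quotientKerEquivOfSurjective φ hs).toEquiv, Nat.card_congr e]

theorem card_sup_le (H K : AddSubgroup M) : Nat.card ↥(H ⊔ K) ≤ Nat.card ↥H * Nat.card ↥K := by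
  rw [← card_sup_mul_card_inf]
  exact Nat.le_mul_of_pos_right _ Nat.card_pos

theorem card_sup_of_disjoint {H K : AddSubgroup M} (h : ∀ v ∈ H, v ∈ K → v = 0) :
    Nat.card ↥(H ⊔ K) = Nat.card ↥H * Nat.card ↥K := by
  rw [← card_sup_mul_card_inf, show H ⊓ K = ⊥ from eq_bot_iff.2 fun v hv => h v hv.1 hv.2, AddSubgroup.card_bot,
    mul_one]

variable {p : ℕ}

theorem eq_prime_of_dvd (hexp : ∀ m : M, p • m = 0) (hp : p.Prime) {l : ℕ} (hl : l.Prime) (hd : l ∣ Nat.card M) :
    l = p := by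
  haveI := Fact.mk hl
  obtain ⟨m, hm⟩ := exists_prime_addOrderOf_dvd_card' l hd
  exact (Nat.prime_dvd_prime_iff_eq hl hp).1 (hm ▸ addOrderOf_dvd_of_nsmul_eq_zero (hexp m))

/-- A proper subgroup has index at least `p`. -/
theorem mul_card_le (hexp : ∀ m : M, p • m = 0) (hp : p.Prime) {H K : AddSubgroup M} (h : H ≤ K) (hne : H ≠ K) :
    p * Nat.card ↥H ≤ Nat.card ↥K := by
  have e := AddSubgroup.card_eq_card_quotient_mul_card_addSubgroup (H.addSubgroupOf K)
  rw [Nat.card_congr (AddSubgroup.addSubgroupOfEquivOfLe h).toEquiv] at e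
  set t := Nat.card (↥K ⧸ H.addSubgroupOf K)
  have ht : t ≠ 1 := fun e1 => hne (AddSubgroup.eq_of_le_of_card_ge h (by rw [e, e1, one_mul]))
  have hl : t.minFac = p := eq_prime_of_dvd hexp hp (Nat.minFac_prime ht)
    ((Nat.minFac_dvd t).trans ((Dvd.intro _ e.symm).trans K.card_addSubgroup_dvd_card))
  have ht0 : 0 < t := Nat.card_pos
  rw [e]
  exact Nat.mul_le_mul_right _ (hl ▸ Nat.minFac_le ht0)

/-- A hyperplane. -/
def IsPlane (p : ℕ) (H : AddSubgroup M) : Prop := p * Nat.card ↥H = Nat.card M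

theorem IsPlane.ne_top {H : AddSubgroup M} (hp : p.Prime) (h : IsPlane p H) : H ≠ ⊤ := by
  intro e
  subst e
  have h1 : p * Nat.card M = Nat.card M := by simpa [IsPlane] using h
  have h2 := hp.one_lt
  have h3 : 0 < Nat.card M := Nat.card_pos
  nlinarith

theorem IsPlane.sup_zmultiples (hexp : ∀ m : M, p • m = 0) (hp : p.Prime) {H : AddSubgroup M} (h : IsPlane p H)
    {v : M} (hv : v ∉ H) : H ⊔ AddSubgroup.zmultiples v = ⊤ := by
  refine AddSubgroup.eq_top_of_le_card _ ?_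
  rw [← h]
  exact mul_card_le hexp hp le_sup_left fun e => hv (e ▸ AddSubgroup.mem_sup_right (AddSubgroup.mem_zmultiples v))

/-- A hyperplane over a subgroup avoiding a given point. -/
theorem exists_plane (hexp : ∀ m : M, p • m = 0) (hp : p.Prime) {W : AddSubgroup M} {v₀ : M} (hv₀ : v₀ ∉ W) :
    ∃ H, W ≤ H ∧ v₀ ∉ H ∧ IsPlane p H := by
  haveI := Fact.mk hp
  obtain ⟨H, ⟨hWH, hvH⟩, hmax⟩ := Set.Finite.exists_maximal (s := {H : AddSubgroup M | W ≤ H ∧ v₀ ∉ H})
    (Set.toFinite _) ⟨W, le_rfl, hv₀⟩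
  refine ⟨H, hWH, hvH, ?_⟩
  have hsp : ∀ m, m ∈ H ⊔ AddSubgroup.zmultiples v₀ := by
    intro m
    by_cases hm : m ∈ H
    · exact AddSubgroup.mem_sup_left hm
    have h1 : v₀ ∈ H ⊔ AddSubgroup.zmultiples m := by
      by_contra hc
      exact hm (hmax ⟨hWH.trans le_sup_left, hc⟩ le_sup_left
        (AddSubgroup.mem_sup_right (AddSubgroup.mem_zmultiples m)))
    obtain ⟨a, ha, b, hb, e⟩ := AddSubgroup.mem_sup.1 h1
    obtain ⟨k, rfl⟩ := AddSubgroup.mem_zmultiples_iff.1 hb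
    have hk : ¬ (p : ℤ) ∣ k := by
      rintro ⟨c, rfl⟩
      apply hvH
      rw [← e, mul_comm, mul_smul, natCast_zsmul, hexp, smul_zero, add_zero]
      exact ha
    obtain ⟨u, w, huw⟩ := (Prime.coprime_iff_not_dvd (Nat.prime_iff_prime_int.1 hp)).2 hk
    have hw : m = -(w • a) + w • v₀ := by
      rw [← e, smul_add, neg_add_cancel_left, smul_smul]
      nth_rw 1 [← one_smul ℤ m]
      rw [← huw, add_smul, mul_smul, natCast_zsmul, hexp, smul_zero, zero_add]
    rw [hw]
    exact add_mem (AddSubgroup.mem_sup_left (neg_mem (H.zsmul_mem ha _)))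
      (AddSubgroup.mem_sup_right ((AddSubgroup.zmultiples v₀).zsmul_mem (AddSubgroup.mem_zmultiples v₀) _))
  have h2 : Nat.card ↥(H ⊔ AddSubgroup.zmultiples v₀) = Nat.card M := by
    rw [(AddSubgroup.eq_top_iff' _).2 hsp, AddSubgroup.card_top]
  refine le_antisymm ?_ ?_
  · rw [← h2]
    exact mul_card_le hexp hp le_sup_left fun e =>
      hvH (e ▸ AddSubgroup.mem_sup_right (AddSubgroup.mem_zmultiples v₀))
  · rw [← h2]
    refine (card_sup_le _ _).trans ((mul_comm p _).symm ▸ Nat.mul_le_mul_left _ ?_)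
    rw [Nat.card_zmultiples]
    exact Nat.le_of_dvd hp.pos (addOrderOf_dvd_of_nsmul_eq_zero (hexp v₀))

/-- An element of order `p` on the module: a stabiliser of a two-step series is a `p`-group. -/
theorem pow_smul_of_series {Γ : Type*} [Group Γ] [DistribMulAction Γ M] (hexp : ∀ m : M, p • m = 0)
    {e : Γ} {m : M} (h : e • (e • m - m) = e • m - m) : e ^ p • m = m := by
  have hpow : ∀ k : ℕ, e ^ k • m = m + k • (e • m - m) := by
    intro k
    induction k with
    | zero => simp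
    | succ k ih =>
      rw [pow_succ', mul_smul, ih, smul_add, smul_comm e k, h, succ_nsmul]
      abel
  rw [hpow, hexp, add_zero]

end CfsgLib.LocalEven.StrongFF
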